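import Groth.Agent.Algz7.ClosedAlg
import Groth.Agent.AVEuler.Trace
import Groth.Agent.RelSpecX.AffHom
import Groth.Agent.RelSpecX.Gamma
import Groth.Agent.RelSpecX.Spec
import Groth.Agent.SymX.Gen
import Groth.Agent.QCoh.ProperOver2

/-!
# The formal coherent system of a formal finite scheme
-/

set_option linter.style.haveILetI false
set_option linter.unusedSectionVars false
set_option backward.isDefEq.respectTransparency false
set_option backward.isDefEq.respectTransparency.types false
set_option maxHeartbeats 1000000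

universe u

open CategoryTheory CategoryTheory.Limits AlgebraicGeometry Opposite TopologicalSpace

noncomputable section

namespace Groth.Agent.AlgzFin

open Groth.Agent

variable {S T T' : Scheme.{u}}

/-- The homomorphism of direct image algebras attached to a morphism over the base. -/
def dirHom (g : T ⟶ S) [QuasiCompact g] [QuasiSeparated g] (g' : T' ⟶ S) [QuasiCompact g'] [QuasiSeparated g']
    (t : T ⟶ T') (w : t ≫ g' = g) :
    RelSpec.QCAlg.directImage g' ⟶ RelSpec.QCAlg.directImage g :=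
  ⟨AffAlg.algHom g' g t w, AffAlg.algHom_comm g' g t w⟩

theorem toModuleMap_comp {A B C : RelSpec.QCAlg S} (φ : A ⟶ B) (ψ : B ⟶ C) :
    RelSpec.QCAlg.Hom.toModuleMap (φ ≫ ψ) =
      RelSpec.QCAlg.Hom.toModuleMap φ ≫ RelSpec.QCAlg.Hom.toModuleMap ψ :=
  Scheme.Modules.hom_ext _ _ fun U => by ext; rfl

theorem isCoh_directImage [IsLocallyNoetherian S] [IsLocallyNoetherian T] (g : T ⟶ S) [IsFinite g] :
    Coh.IsCoh (RelSpec.QCAlg.directImage g).toModule :=
  SheafHomX.isCoh_of_iso (AVEuler.directImageIso g).symm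
    (QCoh.isCoh_pushforward_finite g QCoh.isCoh_structureModule')

theorem finiteType_symmetricAlgebra (R M : Type u) [CommRing R] [AddCommGroup M] [Module R M] [Module.Finite R M] :
    Algebra.FiniteType R (SymmetricAlgebra R M) := by
  classical
  obtain ⟨s, hs⟩ := (Module.Finite.fg_top : (⊤ : Submodule R M).FG)
  refine ⟨⟨s.image (SymmetricAlgebra.ι R M), eq_top_iff.2 fun z hz => ?_⟩⟩
  clear hz
  induction z using SymmetricAlgebra.induction with
  | algebraMap r => exact Subalgebra.algebraMap_mem _ r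
  | ι x =>
    have hx : x ∈ Submodule.span R (s : Set M) := hs ▸ Submodule.mem_top
    have hle : Submodule.span R (s : Set M) ≤ (Algebra.adjoin R ((s.image (SymmetricAlgebra.ι R M) : Finset _) :
        Set (SymmetricAlgebra R M))).toSubmodule.comap (SymmetricAlgebra.ι R M) :=
      Submodule.span_le.2 fun m hm => Algebra.subset_adjoin (Finset.mem_coe.2 (Finset.mem_image_of_mem _ hm))
    exact hle hx
  | mul y z hy hz => exact mul_mem hy hz
  | add y z hy hz => exact add_mem hy hz

theorem locallyOfFiniteType_sym {E : S.Modules} (hE : Coh.IsQCoh E)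
    (hfin : ∀ U : S.affineOpens, Module.Finite Γ(S, U.1) Γ(E, U.1))
    {A : RelSpec.QCAlg S} {j : E ⟶ A.toModule} (hA : RelSpec.IsSymAlg E A j) :
    LocallyOfFiniteType A.π := by
  refine IsZariskiLocalAtTarget.of_iSup_eq_top (P := @LocallyOfFiniteType) (fun U : S.affineOpens => U.1)
    (iSup_affineOpens_eq_top S) fun U => ?_
  haveI : LocallyOfFiniteType (Spec.map (A.str.app (op U.1))) := by
    refine (HasRingHomProperty.Spec_iff (P := @LocallyOfFiniteType)).mpr ?_
    obtain ⟨e, he0, -⟩ := SymX.exists_symEquiv hE hA ⟨U.1, U.2⟩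
    haveI := hfin U
    haveI := finiteType_symmetricAlgebra Γ(S, U.1) Γ(E, U.1)
    letI := (A.str.app (op U.1)).hom.toAlgebra
    exact Algebra.FiniteType.equiv (inferInstance : Algebra.FiniteType Γ(S, U.1) (SymmetricAlgebra Γ(S, U.1) Γ(E, U.1)))
      (AlgEquiv.ofRingEquiv (f := e) fun r => he0 r)
  refine (MorphismProperty.arrow_mk_iso_iff @LocallyOfFiniteType
    (morphismRestrictEq A.π U.2.opensRange_fromSpec.symm ≪≫
      morphismRestrictOpensRange A.π U.2.fromSpec)).2 ?_
  have sq := RelSpecX.isPullback_ι (A := A) U.1 U.2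
  refine (MorphismProperty.cancel_left_of_respectsIso @LocallyOfFiniteType sq.isoPullback.hom _).1 ?_
  rw [sq.isoPullback_hom_snd]
  infer_instance

variable {A : Type u} [CommRing A] {X : Scheme.{u}} [X.Over (Spec (CommRingCat.of A))]

theorem app_eq_smulMod (g : T ⟶ X) [QuasiCompact g] [QuasiSeparated g] (U : X.Opens) (a : A) (x : Γ(T, g ⁻¹ᵁ U)) :
    (Formal.smulMod A (RelSpec.QCAlg.directImage g).toModule a).app U x =
      (g.app U (FFun.φsec (A := A) U a) * x : Γ(T, g ⁻¹ᵁ U)) := rfl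

theorem killedBy_directImage (g : T ⟶ X) [QuasiCompact g] [QuasiSeparated g] (J : Ideal A)
    (v : T ⟶ Spec (CommRingCat.of (A ⧸ J)))
    (h : g ≫ (X ↘ Spec (CommRingCat.of A)) = v ≫ Spec.map (CommRingCat.ofHom (Ideal.Quotient.mk J))) :
    Formal.KilledBy J (RelSpec.QCAlg.directImage g).toModule := fun a ha =>
  QCoh.hom_eq_zero_of_affine _ fun W hW x => by
    refine (app_eq_smulMod g W a (show Γ(T, g ⁻¹ᵁ W) from x)).trans ?_
    have h0 := Algz7.baseIdeal_le_ker g J v h ⟨W, hW⟩ (Ideal.mem_map_of_mem (FFun.φsec (A := A) W) ha)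
    rw [Scheme.Hom.ker_apply, RingHom.mem_ker] at h0
    exact (congrArg (· * (show Γ(T, g ⁻¹ᵁ W) from x)) h0).trans (zero_mul _)

/-- A base change by `Spec (A/J)` gives the quotient by `J` on the direct images. -/
theorem isQuot_dirHom [QuasiCompact (X ↘ Spec (CommRingCat.of A))] [IsLocallyNoetherian X] [IsLocallyNoetherian T] [IsLocallyNoetherian T'] (J : Ideal A)
    (g : T ⟶ X) [IsFinite g] (g' : T' ⟶ X) [IsFinite g'] (t : T ⟶ T') (w : t ≫ g' = g)
    (v : T ⟶ Spec (CommRingCat.of (A ⧸ J)))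
    (hsq : IsPullback t v (g' ≫ (X ↘ Spec (CommRingCat.of A))) (Spec.map (CommRingCat.ofHom (Ideal.Quotient.mk J)))) :
    Algz7.IsQuot J (RelSpec.QCAlg.Hom.toModuleMap (dirHom g g' t w)) := by
  subst w
  haveI : IsClosedImmersion (Spec.map (CommRingCat.ofHom (Ideal.Quotient.mk J))) :=
    IsClosedImmersion.spec_of_surjective _ Ideal.Quotient.mk_surjective
  haveI : IsClosedImmersion t := MorphismProperty.of_isPullback hsq.flip inferInstance
  letI : T'.Over (Spec (CommRingCat.of A)) := ⟨g' ≫ (X ↘ Spec (CommRingCat.of A))⟩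
  have hker : t.ker ≤ Algz7.baseIdeal (X := T') J := by
    let L := Algz7.baseIdeal (X := T') (A := A) J
    haveI : QuasiCompact (L.subschemeι ≫ (T' ↘ Spec (CommRingCat.of A))) := by
      change QuasiCompact (L.subschemeι ≫ g' ≫ (X ↘ Spec (CommRingCat.of A)))
      infer_instance
    obtain ⟨v', hv'⟩ := Algz7.exists_lift_specQuot L.subschemeι J
      (by rw [Scheme.IdealSheafData.ker_subschemeι])
    calc t.ker ≤ (hsq.lift L.subschemeι v' hv' ≫ t).ker := Scheme.Hom.le_ker_comp _ _
      _ = L := by rw [hsq.lift_fst, Scheme.IdealSheafData.ker_subschemeι]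
  let G' := (RelSpec.QCAlg.directImage g').toModule
  let G := (RelSpec.QCAlg.directImage (t ≫ g')).toModule
  let ρ : G' ⟶ G := RelSpec.QCAlg.Hom.toModuleMap (dirHom (t ≫ g') g' t rfl)
  have happ : ∀ (U : X.Opens) (x : Γ(T', g' ⁻¹ᵁ U)), ρ.app U x = t.app (g' ⁻¹ᵁ U) x := fun U x => rfl
  haveI : Epi ρ := CohPullLib.epi_of_surjective_cover (isCoh_directImage g').1 (isCoh_directImage (t ≫ g')).1 ρ
    (fun U : X.affineOpens => U.1) (fun U => U.2) ExistEasy.exists_affine_mem
    fun U x => by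
      obtain ⟨y, hy⟩ := t.app_surjective (g' ⁻¹ᵁ U.1) (U.2.preimage g') x
      exact ⟨y, (happ U.1 y).trans hy⟩
  refine Algz7.IsQuot.mk' ρ (killedBy_directImage (t ≫ g') J v ((Category.assoc _ _ _).trans hsq.w))
    fun {P} φ hφ => ?_
  have h0 : kernel.ι ρ ≫ φ = 0 := QCoh.hom_eq_zero_of_affine _ fun W hW x => by
    show φ.app W ((kernel.ι ρ).app W x) = 0
    generalize hx : (kernel.ι ρ).app W x = y
    have hy : ρ.app W y = 0 := by rw [← hx]; exact congr($(kernel.condition ρ).app W x)
    have hy' : (show Γ(T', g' ⁻¹ᵁ W) from y) ∈ (J.map (FFun.φsec (A := A) (g' ⁻¹ᵁ W))) := by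
      have h1 : (show Γ(T', g' ⁻¹ᵁ W) from y) ∈ t.ker.ideal ⟨g' ⁻¹ᵁ W, hW.preimage g'⟩ := by
        rw [Scheme.Hom.ker_apply, RingHom.mem_ker]
        exact (happ W y).symm.trans hy
      exact hker ⟨g' ⁻¹ᵁ W, hW.preimage g'⟩ h1
    clear hx hy
    refine Submodule.span_induction (p := fun (s : Γ(T', g' ⁻¹ᵁ W)) _ => ∀ c : Γ(T', g' ⁻¹ᵁ W),
      φ.app W (show Γ(G', W) from s * c) = 0) ?_ ?_ ?_ ?_ hy' 1 |> fun h => by rwa [mul_one] at h
    · rintro _ ⟨a, ha, rfl⟩ c
      have h3 : (show Γ(G', W) from FFun.φsec (A := A) (g' ⁻¹ᵁ W) a * c) =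
          (Formal.smulMod A G' a).app W (show Γ(G', W) from c) := by
        refine Eq.trans ?_ (app_eq_smulMod g' W a c).symm
        refine congrArg (· * c) ?_
        exact (Algz7.app_φsec g' W a).symm
      rw [h3]
      exact congr($(Algz7.smulMod_comp_eq_zero hφ ha).app W (show Γ(G', W) from c))
    · intro c
      rw [zero_mul]
      exact map_zero _
    · intro a b _ _ ha hb c
      rw [add_mul]
      exact (map_add (φ.app W).hom (show Γ(G', W) from a * c) (show Γ(G', W) from b * c)).trans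
        (by rw [ha c, hb c, add_zero])
    · intro r a _ ha c
      rw [smul_eq_mul, mul_assoc, mul_left_comm]
      exact ha (r * c)
  exact ⟨Abelian.epiDesc ρ _ h0, Abelian.comp_epiDesc _ _ _⟩

end Groth.Agent.AlgzFin
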