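import Groth.Agent.AlgzFin.Base
import Groth.Agent.S8270
import Groth.Agent.S0040

/-!
# Algebraization of formal finite schemes
-/

set_option linter.style.haveILetI false
set_option linter.unusedSectionVars false
set_option backward.isDefEq.respectTransparency false
set_option backward.isDefEq.respectTransparency.types false
set_option maxHeartbeats 1000000

universe u

open CategoryTheory CategoryTheory.Limits AlgebraicGeometry Opposite TopologicalSpace

noncomputable section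

namespace Groth.Agent.AlgzFin

open Groth.Agent

variable {A : Type u} [CommRing A] [IsNoetherianRing A] {X : Scheme.{u}} [X.Over (Spec (CommRingCat.of A))]
  [IsSeparated (X ↘ Spec (CommRingCat.of A))] [LocallyOfFiniteType (X ↘ Spec (CommRingCat.of A))]
  [QuasiCompact (X ↘ Spec (CommRingCat.of A))]

/-- A formal finite scheme embeds compatibly into the thickenings of an affine scheme of finite type over `X`. -/
theorem exists_affine_embedding (I : Ideal A) [IsAdicComplete I A] {Y : ℕ → Scheme.{u}} (ζ : ∀ n, Y n ⟶ X)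
    [hζ : ∀ n, IsFinite (ζ n)] (t : ∀ n, Y n ⟶ Y (n + 1)) (htζ : ∀ n, t n ≫ ζ (n + 1) = ζ n)
    (v : ∀ n, Y n ⟶ Spec (CommRingCat.of (A ⧸ I ^ (n + 1))))
    (hv : ∀ n, ζ n ≫ (X ↘ Spec (CommRingCat.of A)) = v n ≫ CohB1.specQuot I n)
    (hsq : ∀ n, IsPullback (t n) (v n) (ζ (n + 1) ≫ (X ↘ Spec (CommRingCat.of A))) (CohB1.specQuot I n))
    (hp : IsProper (ζ 0 ≫ (X ↘ Spec (CommRingCat.of A)))) :
    ∃ (V : Scheme.{u}) (π : V ⟶ X) (g : ∀ n, Y n ⟶ V), IsAffineHom π ∧ LocallyOfFiniteType π ∧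
      (∀ n, IsClosedImmersion (g n)) ∧ (∀ n, g n ≫ π = ζ n) ∧ ∀ n, t n ≫ g (n + 1) = g n := by
  haveI : IsLocallyNoetherian X := LocallyOfFiniteType.isLocallyNoetherian (X ↘ Spec (CommRingCat.of A))
  haveI : ∀ n, IsLocallyNoetherian (Y n) := fun n => LocallyOfFiniteType.isLocallyNoetherian (ζ n)
  let B : ∀ n, RelSpec.QCAlg X := fun n => RelSpec.QCAlg.directImage (ζ n)
  let τ : ∀ n, B (n + 1) ⟶ B n := fun n => dirHom (ζ n) (ζ (n + 1)) (t n) (htζ n)
  let F : ℕᵒᵖ ⥤ X.Modules :=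
    Functor.ofOpSequence (X := fun n => (B n).toModule) fun n => RelSpec.QCAlg.Hom.toModuleMap (τ n)
  have hFmap : ∀ n, F.map (homOfLE (Nat.le_succ n)).op = RelSpec.QCAlg.Hom.toModuleMap (τ n) := fun n =>
    Functor.ofOpSequence_map_homOfLE_succ _ n
  have hF : Formal.IsCohFormal I F := ⟨fun n => isCoh_directImage (ζ n),
    fun n => killedBy_directImage (ζ n) _ (v n) (hv n),
    fun n => by rw [hFmap]; exact isQuot_dirHom (I ^ (n + 1)) (ζ n) (ζ (n + 1)) (t n) (htζ n) (v n) (hsq n)⟩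
  have hp0 : ClSub.IsProperOver (X ↘ Spec (CommRingCat.of A)) (CohB1.support (F.obj (op 0))) := by
    have hr : ClSub.IsProperOver (X ↘ Spec (CommRingCat.of A)) (Set.range (ζ 0)) :=
      QCoh.isProperOver_range (q := X ↘ Spec (CommRingCat.of A)) (ζ 0)
    refine QCoh.IsProperOver.subset hr (QCoh.isClosed_support_of_ft (hF.1 0).2) ?_
    intro x hx
    refine Algz7.support_push_subset (ζ 0) (ζ 0).isClosedMap.isClosed_range (N := Coh.structureModule (Y 0))
      (fun y _ => ⟨y, rfl⟩) ?_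
    exact QCoh.support_of_epi (QCoh.isCoh_pushforward_finite (ζ 0) QCoh.isCoh_structureModule').1 (hF.1 0).1
      (AVEuler.directImageIso (ζ 0)).inv hx
  obtain ⟨M, hM, -, ⟨e⟩⟩ := Algz7.exists_algebraization_properSupport I hF hp0
  obtain ⟨S, j, hS⟩ := S8270.result M hM.1
  let φ : ∀ n, M ⟶ (B n).toModule := fun n => Formal.modPowπ I (n + 1) M ≫ e.hom.app (op n)
  have hφepi : ∀ n, Epi (φ n) := fun n => by
    haveI := (Algz7.isQuot_modPowπ (X := X) I (n + 1) M).epi
    exact epi_comp _ _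
  have hφτ : ∀ n, φ (n + 1) ≫ RelSpec.QCAlg.Hom.toModuleMap (τ n) = φ n := fun n => by
    show (Formal.modPowπ I (n + 1 + 1) M ≫ e.hom.app (op (n + 1))) ≫ _ = _
    rw [← hFmap, Category.assoc, ← e.hom.naturality, ← Category.assoc, Algz7.completion_map_succ,
      Formal.modPowπ_trans]
  choose ψ hψ using fun n => (hS (B n) (φ n)).exists
  have hψτ : ∀ n, ψ (n + 1) ≫ τ n = ψ n := fun n =>
    (hS (B n) (φ n)).unique (by rw [toModuleMap_comp, ← Category.assoc, hψ, hφτ]) (hψ n)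
  let ω : ∀ n, AffAlg.algHoms S.π (ζ n) := fun n => ⟨S.gammaMap ≫ (ψ n).hom, by
    rw [← Category.assoc, S.π_c_gammaMap]
    exact (ψ n).comm⟩
  let g : ∀ n, Y n ⟶ S.spec := fun n => RelSpecX.ofAlgHom S.π (ζ n) (ω n)
  have hg : ∀ n, g n ≫ S.π = ζ n := fun n => RelSpecX.ofAlgHom_comp _ _ _
  refine ⟨S.spec, S.π, g, inferInstance, locallyOfFiniteType_sym hM.1
    (fun U => QCoh.finite_of_isFT hM.1 hM.2 U.2) hS, fun n => ?_, hg, fun n => ?_⟩
  · refine RelSpecX.isClosedImmersion_of_surjective S.π (ζ n) (g n) (hg n) fun U => ?_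
    rw [show AffAlg.algHom S.π (ζ n) (g n) (hg n) = S.gammaMap ≫ (ψ n).hom from RelSpecX.algHom_ofAlgHom _ _ _]
    intro z
    haveI := hφepi n
    obtain ⟨m, hm⟩ := QCoh.app_surjective_of_epi hM.1 (hF.1 n).1 (φ n) U.2 z
    haveI := RelSpecX.isIso_gammaMap S
    haveI : IsIso (S.gammaMap.app (op U.1)) := NatIso.hom_app_isIso (asIso S.gammaMap) (op U.1)
    obtain ⟨s, hs⟩ := (ConcreteCategory.bijective_of_isIso (S.gammaMap.app (op U.1))).2 (j.app U.1 m)
    refine ⟨s, ?_⟩
    show (ψ n).hom.app (op U.1) (S.gammaMap.app (op U.1) s) = z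
    rw [hs, ← hm, ← hψ n]
    rfl
  · refine RelSpecX.algHom_injective S.π (ζ n) (by rw [Category.assoc, hg, htζ]) (hg n) fun U => ?_
    rw [RelSpecX.algHom_comp S.π (ζ (n + 1)) (ζ n) (g (n + 1)) (hg (n + 1)) (t n) (htζ n),
      show AffAlg.algHom S.π (ζ n) (g n) (hg n) = S.gammaMap ≫ (ψ n).hom from RelSpecX.algHom_ofAlgHom _ _ _,
      show AffAlg.algHom S.π (ζ (n + 1)) (g (n + 1)) (hg (n + 1)) = S.gammaMap ≫ (ψ (n + 1)).hom from
        RelSpecX.algHom_ofAlgHom _ _ _, Category.assoc]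
    exact congrArg (fun m : S ⟶ B n => (S.gammaMap ≫ m.hom).app (op U.1)) (hψτ n)

/-- Formal finite schemes with proper first term are algebraic. -/
theorem exists_algebraization_finite (f : X ⟶ Spec (CommRingCat.of A)) (hf : f = X ↘ Spec (CommRingCat.of A))
    (I : Ideal A) [IsAdicComplete I A] (Y : ℕ → Scheme.{u}) (y : (n : ℕ) → (Y n ⟶ CohB1.thick f I n))
    (t : (n : ℕ) → (Y n ⟶ Y (n + 1))) (hy : ∀ n, IsFinite (y n))
    (ht : ∀ n, IsPullback (t n) (y n) (y (n + 1)) (CohB1.thickTrans f I n))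
    (hp : IsProper (y 0 ≫ CohB1.thickToBase f I 0)) :
    ∃ (W : Scheme.{u}) (i : W ⟶ X) (w : (n : ℕ) → (Y n ⟶ W)), IsFinite i ∧
      IsProper (i ≫ f) ∧ (∀ n, w n = t n ≫ w (n + 1)) ∧ ∀ n, IsPullback (w n) (y n) i (CohB1.thickι f I n) := by
  haveI : ∀ n, IsClosedImmersion (CohB1.specQuot I n) := fun n =>
    IsClosedImmersion.spec_of_surjective _ Ideal.Quotient.mk_surjective
  haveI : ∀ n, IsClosedImmersion (CohB1.thickι f I n) := fun n =>
    MorphismProperty.pullback_fst (P := @IsClosedImmersion) f (CohB1.specQuot I n) inferInstance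
  haveI := hy
  let ζ : ∀ n, Y n ⟶ X := fun n => y n ≫ CohB1.thickι f I n
  let vb : ∀ n, Y n ⟶ Spec (CommRingCat.of (A ⧸ I ^ (n + 1))) := fun n => y n ≫ CohB1.thickToBase f I n
  have htrι : ∀ {Z : Scheme.{u}} (h : Z ⟶ Spec (CommRingCat.of A)) (n : ℕ),
      CohB1.thickTrans h I n ≫ CohB1.thickι h I (n + 1) = CohB1.thickι h I n := fun h n => by
    simp [CohB1.thickTrans]
  have hTsq : ∀ {Z : Scheme.{u}} (h : Z ⟶ Spec (CommRingCat.of A)) (n : ℕ),
      IsPullback (CohB1.thickTrans h I n) (CohB1.thickToBase h I n) (CohB1.thickι h I (n + 1) ≫ h)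
        (CohB1.specQuot I n) := fun h n => by
    haveI : IsClosedImmersion (CohB1.thickι h I (n + 1)) :=
      MorphismProperty.pullback_fst (P := @IsClosedImmersion) h (CohB1.specQuot I (n + 1)) inferInstance
    have hsq : IsPullback (CohB1.thickι h I n) (CohB1.thickToBase h I n) h (CohB1.specQuot I n) :=
      IsPullback.of_hasPullback _ _
    have hc : CohB1.thickTrans h I n ≫ CohB1.thickι h I (n + 1) ≫ h =
        CohB1.thickToBase h I n ≫ CohB1.specQuot I n := by
      rw [← Category.assoc, htrι]; exact hsq.w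
    refine ⟨⟨hc⟩, ⟨PullbackCone.IsLimit.mk hc (fun c => hsq.lift (c.fst ≫ CohB1.thickι h I (n + 1)) c.snd
      (by rw [Category.assoc]; exact c.condition)) (fun c => ?_) (fun c => hsq.lift_snd _ _ _) fun c m h1 h2 => ?_⟩⟩
    · rw [← cancel_mono (CohB1.thickι h I (n + 1)), Category.assoc, htrι, hsq.lift_fst]
    · refine hsq.hom_ext ?_ (h2.trans (hsq.lift_snd _ _ _).symm)
      rw [hsq.lift_fst, ← h1, Category.assoc, htrι]
  have htζ : ∀ n, t n ≫ ζ (n + 1) = ζ n := fun n => by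
    show t n ≫ y (n + 1) ≫ CohB1.thickι f I (n + 1) = y n ≫ CohB1.thickι f I n
    rw [← Category.assoc, (ht n).w, Category.assoc, htrι]
  have hv : ∀ n, ζ n ≫ (X ↘ Spec (CommRingCat.of A)) = vb n ≫ CohB1.specQuot I n := fun n => by
    rw [← hf]
    simp only [ζ, vb, Category.assoc, pullback.condition]
  have hsq : ∀ n, IsPullback (t n) (vb n) (ζ (n + 1) ≫ (X ↘ Spec (CommRingCat.of A))) (CohB1.specQuot I n) :=
    fun n => by
      rw [← hf, show ζ (n + 1) ≫ f = y (n + 1) ≫ CohB1.thickι f I (n + 1) ≫ f from Category.assoc _ _ _]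
      exact (ht n).paste_vert (hTsq f n)
  have hp' : IsProper (ζ 0 ≫ (X ↘ Spec (CommRingCat.of A))) := by
    rw [hv]
    haveI := hp
    infer_instance
  obtain ⟨V, π, g, hπ, hπft, hgc, hg, htg⟩ := exists_affine_embedding I ζ t htζ vb hv hsq hp'
  haveI := hπ
  haveI := hπft
  haveI := hgc
  haveI : IsSeparated f := hf ▸ inferInstance
  haveI : LocallyOfFiniteType f := hf ▸ inferInstance
  haveI : QuasiCompact f := hf ▸ inferInstance
  let f' : V ⟶ Spec (CommRingCat.of A) := π ≫ f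
  haveI : ∀ n, IsClosedImmersion (CohB1.thickι f' I n) := fun n =>
    MorphismProperty.pullback_fst (P := @IsClosedImmersion) f' (CohB1.specQuot I n) inferInstance
  have hgv : ∀ n, g n ≫ f' = vb n ≫ CohB1.specQuot I n := fun n => by
    rw [← Category.assoc, hg, hf, hv]
  let z : ∀ n, Y n ⟶ CohB1.thick f' I n := fun n => pullback.lift (g n) (vb n) (hgv n)
  have hz1 : ∀ n, z n ≫ CohB1.thickι f' I n = g n := fun n => pullback.lift_fst _ _ _
  haveI hz : ∀ n, IsClosedImmersion (z n) := fun n => by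
    haveI : IsClosedImmersion (z n ≫ CohB1.thickι f' I n) := by rw [hz1]; infer_instance
    exact IsClosedImmersion.of_comp (z n) (CohB1.thickι f' I n)
  let q : ∀ n, CohB1.thick f' I n ⟶ CohB1.thick f I n := fun n =>
    pullback.lift (CohB1.thickι f' I n ≫ π) (CohB1.thickToBase f' I n)
      (by rw [Category.assoc]; exact pullback.condition)
  have hq : ∀ n, IsPullback (CohB1.thickι f' I n) (q n) π (CohB1.thickι f I n) := fun n => by
    refine IsPullback.of_bot ?_ (pullback.lift_fst _ _ _).symm (IsPullback.of_hasPullback f (CohB1.specQuot I n))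
    rw [show q n ≫ pullback.snd f (CohB1.specQuot I n) = CohB1.thickToBase f' I n from pullback.lift_snd _ _ _]
    exact IsPullback.of_hasPullback _ _
  have hqT : ∀ n, IsPullback (CohB1.thickTrans f' I n) (q n) (q (n + 1)) (CohB1.thickTrans f I n) := fun n => by
    refine IsPullback.of_right ?_ ?_ (hq (n + 1))
    · rw [htrι, htrι]; exact hq n
    · rw [← cancel_mono (CohB1.thickι f I (n + 1)), Category.assoc, Category.assoc, ← (hq (n + 1)).w, htrι,
        reassoc_of% htrι, ← (hq n).w]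
  have hzy : ∀ n, z n ≫ q n = y n := fun n => by
    rw [← cancel_mono (CohB1.thickι f I n), Category.assoc, ← (hq n).w, ← Category.assoc, hz1, hg]
  have hzt : ∀ n, IsPullback (t n) (z n) (z (n + 1)) (CohB1.thickTrans f' I n) := fun n => by
    refine IsPullback.of_bot ?_ ?_ (hqT n)
    · rw [hzy, hzy]; exact ht n
    · rw [← cancel_mono (CohB1.thickι f' I (n + 1)), Category.assoc, Category.assoc, hz1, htrι, hz1, htg]
  have hzp : IsProper (z 0 ≫ CohB1.thickToBase f' I 0) := by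
    rw [show z 0 ≫ CohB1.thickToBase f' I 0 = vb 0 from pullback.lift_snd _ _ _]
    exact hp
  obtain ⟨W, i, w, hi, hpr, hw, hwp⟩ := S0040.result A I f' Y z t hz hzt hzp
  haveI := hi
  haveI : IsProper ((i ≫ π) ≫ f) := by rw [Category.assoc]; exact hpr
  haveI : IsProper (i ≫ π) := MorphismProperty.of_postcomp @IsProper (i ≫ π) f (inferInstance : IsSeparated f) inferInstance
  refine ⟨W, i ≫ π, w, IsFinite.iff_isProper_and_isAffineHom.2 ⟨inferInstance, inferInstance⟩, inferInstance, hw,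
    fun n => ?_⟩
  rw [← hzy]
  exact (hwp n).paste_vert (hq n)

end Groth.Agent.AlgzFin
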